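import Groth.Agent.UnramA.SmoothFibreDim
import Groth.Agent.Fga.DimLt
import Groth.Agent.EtpbcA.TrdegSpec
import Groth.Agent.EtpbcA.ArtinDim
import Groth.Agent.VarietyB.DimSch
import Mathlib.AlgebraicGeometry.Noetherian
import Mathlib.AlgebraicGeometry.Morphisms.ClosedImmersion
import Mathlib.AlgebraicGeometry.IdealSheaf.Subscheme

/-!
# Dimension of the closure of the image
-/

set_option autoImplicit false
set_option linter.style.haveILetI false
universe u
open CategoryTheory CategoryTheory.Limits AlgebraicGeometry TopologicalSpace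

namespace Groth.Agent.Etdl.H111.ClosDim

open Groth.Agent.EtpbcA.Artin

/-- Topological dimension of an irreducible smooth scheme over a field. -/
theorem topologicalKrullDim_eq {k : Type u} [Field k] {X : Scheme.{u}}
    (f : X ⟶ Spec (CommRingCat.of k)) (n : ℕ)
    [SmoothOfRelativeDimension n f] [IrreducibleSpace X] : topologicalKrullDim X = n := by
  have hsm : Smooth f := SmoothOfRelativeDimension.smooth n f
  let : X.Over (Spec (CommRingCat.of k)) := ⟨f⟩
  have : LocallyOfFiniteType (X ↘ (Spec (CommRingCat.of k))) := inferInstanceAs (LocallyOfFiniteType f)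
  rw [VarietyB.DimSch.topologicalKrullDim_eq_trd k,
    ← VarietyB.DimSch.localDim_eq_of_irreducible k (X := X) (Classical.arbitrary X)]
  exact UnramA.SmoothFibreDim.localDim_eq n f _

theorem resTrdegLE_of_comp {K : Type u} [Field K] {X W : Scheme.{u}} (f : X ⟶ Spec (CommRingCat.of K))
    (h : W ⟶ X) (w : W) (a : ℕ) (H : EtPBC.ResTrdegLE (h ≫ f) w a) : EtPBC.ResTrdegLE f (h w) a := by
  obtain ⟨φ, hφ⟩ := exists_resMap f (h w)
  have h2 : Spec.map (CommRingCat.ofHom ((h.residueFieldMap w).hom.comp φ)) =
      W.fromSpecResidueField w ≫ h ≫ f := by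
    rw [← Category.assoc, ← Scheme.Hom.SpecMap_residueFieldMap_fromSpecResidueField, Category.assoc, ← hφ,
      ← Spec.map_comp]
    rfl
  rw [resTrdegLE_iff (h ≫ f) w a _ h2] at H
  rw [resTrdegLE_iff f (h w) a φ hφ]
  refine le_trans ?_ H
  letI : Algebra K (X.residueField (h w)) := φ.toAlgebra
  letI : Algebra K (W.residueField w) := ((h.residueFieldMap w).hom.comp φ).toAlgebra
  exact _root_.trdeg_le_of_injective
    ({ (h.residueFieldMap w).hom with commutes' := fun _ => rfl } :
      (X.residueField (h w)) →ₐ[K] (W.residueField w)) (h.residueFieldMap w).hom.injective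

/-- A point of the closure of the image of a noetherian space is a specialization of a point of the image. -/
theorem exists_specializes {X Y : Type*} [TopologicalSpace X] [TopologicalSpace Y] [NoetherianSpace X]
    [QuasiSober X] {h : X → Y} (hc : Continuous h) {y : Y} (hy : y ∈ closure (Set.range h)) :
    ∃ x : X, h x ⤳ y := by
  have h1 : Set.range h = ⋃ C ∈ irreducibleComponents X, h '' C := by
    rw [← Set.image_univ, ← sUnion_irreducibleComponents, Set.image_sUnion, Set.sUnion_image]
  rw [h1, NoetherianSpace.finite_irreducibleComponents.closure_biUnion] at hy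
  simp only [Set.mem_iUnion] at hy
  obtain ⟨C, hC, hyC⟩ := hy
  have hirr : IsIrreducible C := hC.1
  have hcl : IsClosed C := isClosed_of_mem_irreducibleComponents C hC
  refine ⟨hirr.genericPoint, ?_⟩
  rw [specializes_iff_mem_closure]
  have h2 : h '' C ⊆ closure {h hirr.genericPoint} := by
    have h3 : C = closure {hirr.genericPoint} := by
      rw [hirr.closure_genericPoint hcl]
    conv_lhs => rw [h3]
    refine (image_closure_subset_closure_image hc).trans ?_
    rw [Set.image_singleton]
  exact closure_minimal h2 isClosed_closure hyC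

/-- Dimension of the closure of the image of a noetherian scheme. -/
theorem topologicalKrullDim_le_of_range {K : Type u} [Field K] {X Y Z : Scheme.{u}} (h : X ⟶ Y)
    (a : Y ⟶ Spec (CommRingCat.of K)) [LocallyOfFiniteType a] [LocallyOfFiniteType h]
    [NoetherianSpace X] (d : ℕ) (hd : topologicalKrullDim X ≤ d) (ι : Z ⟶ Y) [IsClosedImmersion ι]
    (hr : Set.range ι ⊆ closure (Set.range h)) : topologicalKrullDim Z ≤ d := by
  rw [resTrdegLE_iff_dim K Z (ι ≫ a) d]
  intro z
  refine (resTrdegLE_comp_iff a ι z (algAt_of_surjectiveOnStalks _ _) d).2 ?_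
  obtain ⟨x, hx⟩ := exists_specializes h.continuous (hr ⟨z, rfl⟩)
  refine resTrdegLE_of_specializes a hx ?_
  refine resTrdegLE_of_comp a h x d ?_
  exact (resTrdegLE_iff_dim K X (h ≫ a) d).1 hd x

/-- A closed subscheme of an irreducible scheme of dimension `d + 1` which is not everything has
dimension `≤ d`. -/
theorem topologicalKrullDim_le_of_closed {X R : Scheme.{u}} [IrreducibleSpace X] (c : R ⟶ X)
    [IsClosedImmersion c] (hne : Set.range c ≠ Set.univ) (d : ℕ)
    (hd : topologicalKrullDim X ≤ ((d + 1 : ℕ) : WithBot ℕ∞)) : topologicalKrullDim R ≤ d := by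
  have h1 : topologicalKrullDim (Set.range c) < ((d + 1 : ℕ) : WithBot ℕ∞) := by
    refine Fga.DimLt.topologicalKrullDim_lt (A := Set.univ) (IrreducibleSpace.isIrreducible_univ X)
      c.isClosedEmbedding.isClosed_range (Set.subset_univ _) hne ?_
    have h2 : topologicalKrullDim (Set.univ : Set X) ≤ topologicalKrullDim X :=
      Topology.IsInducing.subtypeVal.topologicalKrullDim_le
    refine (h2.trans hd).trans_lt ?_
    exact_mod_cast Nat.lt_succ_self _
  have h3 : topologicalKrullDim R ≤ topologicalKrullDim (Set.range c) :=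
    (c.isClosedEmbedding.isEmbedding.toHomeomorph.isHomeomorph.topologicalKrullDim_eq _).le
  have h4 := h3.trans_lt h1
  exact ENat.WithBot.lt_add_one_iff.1 (by exact_mod_cast h4)

/-- A closed subscheme of an irreducible scheme of dimension `≤ 0` which is not everything is empty. -/
theorem isEmpty_of_closed {X R : Scheme.{u}} [IrreducibleSpace X] (c : R ⟶ X)
    [IsClosedImmersion c] (hne : Set.range c ≠ Set.univ)
    (hd : topologicalKrullDim X ≤ ((0 : ℕ) : WithBot ℕ∞)) : IsEmpty R := by
  by_contra hR
  rw [not_isEmpty_iff] at hR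
  have h1 : topologicalKrullDim (Set.range c) < ((0 : ℕ) : WithBot ℕ∞) := by
    refine Fga.DimLt.topologicalKrullDim_lt (A := Set.univ) (IrreducibleSpace.isIrreducible_univ X)
      c.isClosedEmbedding.isClosed_range (Set.subset_univ _) hne ?_
    have h2 : topologicalKrullDim (Set.univ : Set X) ≤ topologicalKrullDim X :=
      Topology.IsInducing.subtypeVal.topologicalKrullDim_le
    refine (h2.trans hd).trans_lt ?_
    exact_mod_cast Nat.lt_succ_self _
  have : Nonempty (Set.range c) := ⟨⟨_, Classical.arbitrary R, rfl⟩⟩
  have h3 : (0 : WithBot ℕ∞) ≤ topologicalKrullDim (Set.range c) := by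
    have y : ↥(Set.range c) := Classical.arbitrary _
    have : Nonempty (IrreducibleCloseds ↥(Set.range c)) :=
      ⟨⟨closure {y}, isIrreducible_singleton.closure, isClosed_closure⟩⟩
    unfold topologicalKrullDim
    exact Order.krullDim_nonneg
  exact absurd (h3.trans_lt h1) (lt_irrefl _)

end Groth.Agent.Etdl.H111.ClosDim
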