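import Mathlib.Algebra.Homology.DerivedCategory.Ext.ExactSequences
import Mathlib.CategoryTheory.Abelian.Basic

/-!
# Surjectivity of a map on `Ext` from the vanishing for the kernel and the cokernel
-/

set_option autoImplicit false
universe w v u
open CategoryTheory CategoryTheory.Limits CategoryTheory.Abelian

namespace Groth.Agent.Etdl.H111.ExtSurj

variable {C : Type u} [Category.{v} C] [Abelian C] [HasExt.{w} C]

/-- If `f` is an epimorphism and `Ext^{n+1}(Z, ker f) = 0`, then `Ext^n(Z, f)` is surjective. -/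
theorem surjective_of_epi {Z A B : C} (f : A ⟶ B) [Epi f] (n : ℕ)
    (h : Subsingleton (Ext.{w} Z (kernel f) (n + 1))) :
    Function.Surjective (fun e : Ext.{w} Z A n => e.comp (Ext.mk₀ f) (add_zero n)) := by
  let S : ShortComplex C := ShortComplex.mk (kernel.ι f) f (kernel.condition f)
  have hS : S.ShortExact :=
    { exact := ShortComplex.exact_of_f_is_kernel _ (kernelIsKernel f)
      mono_f := inferInstanceAs (Mono (kernel.ι f))
      epi_g := inferInstanceAs (Epi f) }
  intro x
  obtain ⟨y, hy⟩ := Ext.covariant_sequence_exact₃ Z hS x (n₁ := n + 1) rfl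
    (Subsingleton.elim _ _)
  exact ⟨y, hy⟩

/-- If `f` is a monomorphism and `Ext^n(Z, coker f) = 0`, then `Ext^n(Z, f)` is surjective. -/
theorem surjective_of_mono {Z A B : C} (f : A ⟶ B) [Mono f] (n : ℕ)
    (h : Subsingleton (Ext.{w} Z (cokernel f) n)) :
    Function.Surjective (fun e : Ext.{w} Z A n => e.comp (Ext.mk₀ f) (add_zero n)) := by
  let S : ShortComplex C := ShortComplex.mk f (cokernel.π f) (cokernel.condition f)
  have hS : S.ShortExact :=
    { exact := ShortComplex.exact_of_g_is_cokernel _ (cokernelIsCokernel f)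
      mono_f := inferInstanceAs (Mono f)
      epi_g := inferInstanceAs (Epi (cokernel.π f)) }
  intro x
  obtain ⟨y, hy⟩ := Ext.covariant_sequence_exact₂ Z hS x (Subsingleton.elim _ _)
  exact ⟨y, hy⟩

/-- If `Ext^{n+1}(Z, ker f) = 0` and `Ext^n(Z, coker f) = 0`, then `Ext^n(Z, f)` is surjective. -/
theorem surjective_of_ker_coker {Z A B : C} (f : A ⟶ B) (n : ℕ)
    (h1 : Subsingleton (Ext.{w} Z (kernel f) (n + 1)))
    (h2 : Subsingleton (Ext.{w} Z (cokernel f) n)) :
    Function.Surjective (fun e : Ext.{w} Z A n => e.comp (Ext.mk₀ f) (add_zero n)) := by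
  have e1 : kernel (Abelian.factorThruImage f) ≅ kernel f :=
    (kernelCompMono (Abelian.factorThruImage f) (Abelian.image.ι f)).symm ≪≫
      kernelIsoOfEq (Abelian.image.fac f)
  have e2 : cokernel (Abelian.image.ι f) ≅ cokernel f :=
    (cokernelEpiComp (Abelian.factorThruImage f) (Abelian.image.ι f)).symm ≪≫
      cokernelIsoOfEq (Abelian.image.fac f)
  have hs : ∀ {A' B' : C} (e : A' ≅ B') (m : ℕ), Subsingleton (Ext.{w} Z B' m) →
      Subsingleton (Ext.{w} Z A' m) := by
    intro A' B' e m hm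
    refine Function.Injective.subsingleton
      (f := fun x : Ext.{w} Z A' m => x.comp (Ext.mk₀ e.hom) (add_zero m)) ?_
    intro x y hxy
    have h := congrArg (fun z : Ext.{w} Z B' m => z.comp (Ext.mk₀ e.inv) (add_zero m)) hxy
    simpa using h
  have s1 := surjective_of_epi (Z := Z) (Abelian.factorThruImage f) n (hs e1 (n + 1) h1)
  have s2 := surjective_of_mono (Z := Z) (Abelian.image.ι f) n (hs e2 n h2)
  intro x
  obtain ⟨y, hy⟩ := s2 x
  obtain ⟨z, hz⟩ := s1 y
  refine ⟨z, ?_⟩
  have h3 : (z.comp (Ext.mk₀ f) (add_zero n) : Ext.{w} Z B n) =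
      (z.comp (Ext.mk₀ (Abelian.factorThruImage f)) (add_zero n)).comp
        (Ext.mk₀ (Abelian.image.ι f)) (add_zero n) := by
    rw [Ext.comp_assoc_of_third_deg_zero, Ext.mk₀_comp_mk₀, Abelian.image.fac]
  change (z.comp (Ext.mk₀ f) (add_zero n) : Ext.{w} Z B n) = x
  rw [h3]
  exact (congrArg (fun t : Ext.{w} Z _ n => t.comp (Ext.mk₀ (Abelian.image.ι f)) (add_zero n)) hz).trans hy

theorem subsingleton_of_isZero {Z A : C} (hA : IsZero A) (n : ℕ) :
    Subsingleton (Ext.{w} Z A n) := by
  refine subsingleton_of_forall_eq 0 fun x => ?_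
  rw [← Ext.comp_mk₀_id x, (IsZero.iff_id_eq_zero A).1 hA, Ext.mk₀_zero, Ext.comp_zero]

end Groth.Agent.Etdl.H111.ExtSurj
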