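import Groth.Agent.Etcore.OpenClosed
import Groth.Agent.Sga4B.TorsionStalks
import Groth.Agent.CurvesA.AffCdPush
import Groth.Agent.Sga4h.H915.Dict

/-!
# Vanishing of cohomology above twice the dimension of the support
-/

set_option autoImplicit false
set_option linter.dupNamespace false
universe u
open CategoryTheory CategoryTheory.Limits AlgebraicGeometry Opposite Abelian
open Groth.Agent.Etcore Groth.Agent.Sga4B Groth.Agent.Sga4B.DualShape

namespace Groth.Agent.Etdl.H111.SuppVan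

/-- `A ⟶ ι_* ι^* A` is an isomorphism for `ι` a closed immersion and `A` a sheaf with zero stalks outside of
the image of `ι`. -/
theorem isIso_unit_of_isZero_stalks {W P : Scheme.{u}} (ι : W ⟶ P) [IsClosedImmersion ι]
    (A : EtCoh.Ab P)
    (h : ∀ (Ω : Type u) [Field Ω] [IsSepClosed Ω] (ξ : Spec (CommRingCat.of Ω) ⟶ P),
      ξ default ∉ Set.range ι → IsZero ((EtCoh.stalk ξ).obj A)) :
    IsIso ((EtCoh.pullPushAdj ι).unit.app A) := by
  let V : P.Opens := ⟨(Set.range ι)ᶜ, ι.isClosedEmbedding.isClosed_range.isOpen_compl⟩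
  have hd : IsCompl (Set.range ι) (Set.range V.ι) := by
    rw [Scheme.Opens.range_ι]
    exact isCompl_compl
  rw [Stalks.isIso_iff_stalks]
  intro Ω _ _ ξ
  by_cases hξ : ξ default ∈ Set.range ι
  · exact OpenClosed.isIso_stalk_unit ι ξ hξ A
  · have h1 : IsZero ((EtCoh.stalk ξ).obj ((𝟭 (EtCoh.Ab P)).obj A)) := h Ω ξ hξ
    have h2 : IsZero ((EtCoh.stalk ξ).obj ((EtCoh.pull ι ⋙ EtCoh.push ι).obj A)) := by
      refine OpenClosed.isZero_stalk_push ι V.ι hd.disjoint ξ ?_ ((EtCoh.pull ι).obj A)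
      rw [Scheme.Opens.range_ι]
      exact hξ
    exact h1.isIso h2 _

/-- Stalks of a sheaf whose restriction to the open subscheme `V` vanishes. -/
theorem isZero_stalk {V Y : Scheme.{u}} (v : V ⟶ Y) [IsOpenImmersion v] (A : EtCoh.Ab Y)
    (h : IsZero ((EtCoh.pull v).obj A)) (Ω : Type u) [Field Ω] [IsSepClosed Ω]
    (ξ : Spec (CommRingCat.of Ω) ⟶ Y) (hξ : ξ default ∈ Set.range v) :
    IsZero ((EtCoh.stalk ξ).obj A) := by
  obtain ⟨ζ, rfl⟩ := ShriekUnique.exists_lift v ξ hξ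
  exact IsZero.of_iso ((EtCoh.stalk ζ).map_isZero h)
    ((Groth.Agent.Etbase.StalkPull.stalkPullIso v ζ).app A)

/-- `Ext` groups from `ℤ[Y]` vanish iff the cohomology groups vanish. -/
theorem subsingleton_ext {Y : Scheme.{u}} (F : EtCoh.Ab Y) (q : ℕ)
    (h : Subsingleton (EtCoh.H Y F q)) :
    Subsingleton (Ext.{u + 1} (ZS (EtCoh.top Y)) F q) := by
  have h' : Subsingleton (Ext.{u + 1} (EtCoh.const Y ℤ) F q) := h
  refine Function.Injective.subsingleton (β := Ext.{u + 1} (EtCoh.const Y ℤ) F q)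
    (f := fun x => (Ext.mk₀ (Groth.Agent.Sga4h.H915.Dict.zIso Y).hom).comp x (zero_add q)) ?_
  intro x y hxy
  have h2 := congrArg (fun z : Ext.{u + 1} (EtCoh.const Y ℤ) F q =>
    (Ext.mk₀ (Groth.Agent.Sga4h.H915.Dict.zIso Y).inv).comp z (zero_add q)) hxy
  simpa using h2

/-- Vanishing of `Ext^q(ℤ[Y], F)` for `F` supported on a closed subscheme `Z` of cohomological dimension
less than `q`. -/
theorem subsingleton_ext_of_supp {Z Y : Scheme.{u}} (ι : Z ⟶ Y) [IsClosedImmersion ι] (e : ℕ)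
    (hZ : EtCoh.CohDimLE Z e) (F : EtCoh.Ab Y) (hF : EtCoh.IsTorsion F)
    (hs : ∀ (Ω : Type u) [Field Ω] [IsSepClosed Ω] (ξ : Spec (CommRingCat.of Ω) ⟶ Y),
      ξ default ∉ Set.range ι → IsZero ((EtCoh.stalk ξ).obj F)) (q : ℕ) (hq : e < q) :
    Subsingleton (Ext.{u + 1} (ZS (EtCoh.top Y)) F q) := by
  have h1 := isIso_unit_of_isZero_stalks ι F hs
  have h2 := hZ ((EtCoh.pull ι).obj F) (TorsionStalks.isTorsion_pull ι hF) q hq
  have h3 := (Groth.Agent.CurvesA.AffCdPush.H_push_iff_of_isFinite ι _ q).2 h2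
  exact subsingleton_ext F q (Groth.Agent.EtpbcA.CdEtLeray.H_subsingleton_of_iso
    (asIso ((EtCoh.pullPushAdj ι).unit.app F)).symm q h3)

/-- A sheaf is killed by `n` iff `n • 𝟙 = 0`; kernels. -/
theorem isTorsion_kernel {Y : Scheme.{u}} {F G : EtCoh.Ab Y} (φ : F ⟶ G) (n : ℕ) (hn : 0 < n)
    (hF : n • 𝟙 F = 0) : EtCoh.IsTorsion (kernel φ) := by
  have h : n • 𝟙 (kernel φ) = 0 := by
    rw [← cancel_mono (kernel.ι φ), zero_comp, Preadditive.nsmul_comp, Category.id_comp]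
    have h2 : n • kernel.ι φ = kernel.ι φ ≫ (n • 𝟙 F) := by
      rw [Preadditive.comp_nsmul, Category.comp_id]
    rw [h2, hF, comp_zero]
  intro U s x
  refine ⟨U, 𝟙 U, ⟨x, rfl⟩, ?_⟩
  rw [isOfFinAddOrder_iff_nsmul_eq_zero]
  exact ⟨n, hn, (ShriekTools.killedBy_iff n _).2 h U _⟩

theorem isTorsion_cokernel {Y : Scheme.{u}} {F G : EtCoh.Ab Y} (φ : F ⟶ G) (n : ℕ) (hn : 0 < n)
    (hG : n • 𝟙 G = 0) : EtCoh.IsTorsion (cokernel φ) := by
  have h : n • 𝟙 (cokernel φ) = 0 := by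
    rw [← cancel_epi (cokernel.π φ), comp_zero, Preadditive.comp_nsmul, Category.comp_id]
    have h2 : n • cokernel.π φ = (n • 𝟙 G) ≫ cokernel.π φ := by
      rw [Preadditive.nsmul_comp, Category.id_comp]
    rw [h2, hG, zero_comp]
  intro U s x
  refine ⟨U, 𝟙 U, ⟨x, rfl⟩, ?_⟩
  rw [isOfFinAddOrder_iff_nsmul_eq_zero]
  exact ⟨n, hn, (ShriekTools.killedBy_iff n _).2 h U _⟩

theorem nsmul_id_map {C D : Type*} [Category C] [Category D] [Preadditive C] [Preadditive D]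
    (L : C ⥤ D) [L.Additive] (n : ℕ) (M : C) (h : n • 𝟙 M = 0) : n • 𝟙 (L.obj M) = 0 := by
  rw [← L.map_id, ← Functor.map_nsmul, h, L.map_zero]

end Groth.Agent.Etdl.H111.SuppVan
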