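import Groth.Agent.Etdl.H440.CFGeom
import Groth.Agent.Etcore.OpenClosed
import Groth.Agent.Etbase.EtSite

/-!
# Kernel and cokernel of `w_! q⁻¹ π⁻¹ M ⟶ j_! f⁻¹ M` away from a closed set
-/

set_option autoImplicit false
set_option linter.dupNamespace false
universe u
open CategoryTheory CategoryTheory.Limits AlgebraicGeometry Opposite Abelian
open Groth.Agent.EtpbcB.BCCalc
open scoped Groth.Agent.Etcore.EtInst
open Groth.Agent.Etcore.EtInst
open Groth.Agent.Etdl.H440.CF

namespace Groth.Agent.Etdl.H111.UnVan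

variable {P Y V : Scheme.{u}}

/-- `(v⁻¹ g) = 0` if `g` kills the unit sections after restriction to `V`. -/
theorem map_eq_zero (A : CF P Y) {F : EtCoh.Ab P} {Q : EtCoh.Ab Y} (g : A.L.obj F ⟶ Q) (v : V ⟶ Y)
    (h : ∀ (T : P.Etale) (s : EtCoh.sect F T),
      (pullCF v).un (g.hom.app (op (A.v.obj T)) (A.un s)) = 0) : (EtCoh.pull v).map g = 0 := by
  apply CF.hom_ext (A.comp (pullCF v))
  intro T s
  refine (congrArg (((EtCoh.pull v).map g).hom.app _) (CF.comp_un A (pullCF v) s)).trans ?_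
  refine ((pullCF v).map_un g (A.un s)).trans ?_
  exact h T s

/-- `v⁻¹ Q = 0` for an epimorphism `g : A.L F ⟶ Q` killing the unit sections after restriction. -/
theorem isZero_of_epi (A : CF P Y) {F : EtCoh.Ab P} {Q : EtCoh.Ab Y} (g : A.L.obj F ⟶ Q) [Epi g]
    (v : V ⟶ Y) (h : ∀ (T : P.Etale) (s : EtCoh.sect F T),
      (pullCF v).un (g.hom.app (op (A.v.obj T)) (A.un s)) = 0) :
    IsZero ((EtCoh.pull v).obj Q) := by
  have h1 := map_eq_zero A g v h
  have h2 : Epi ((EtCoh.pull v).map g) := inferInstance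
  rw [h1] at h2
  exact IsZero.of_epi_eq_zero (0 : (EtCoh.pull v).obj (A.L.obj F) ⟶ (EtCoh.pull v).obj Q) rfl

/-- The object `V ×_Y (W ×_P T)` is empty if the images of `V` and `W` in `Y` are disjoint. -/
theorem isEmpty_bc {W : Scheme.{u}} (q : W ⟶ P) (w : W ⟶ Y) [Etale w] (v : V ⟶ Y)
    (hd : Disjoint (Set.range v) (Set.range w)) (T : P.Etale) :
    IsEmpty ((EtCoh.bc v).obj ((efCF q w).v.obj T)).left := by
  constructor
  intro z
  have h1 : pr v ((efCF q w).v.obj T) ≫ ((efCF q w).v.obj T).hom =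
      ((EtCoh.bc v).obj ((efCF q w).v.obj T)).hom ≫ v := pr_hom v _
  rw [← eW_w] at h1
  have h2 : w (eW q w T (pr v ((efCF q w).v.obj T) z)) =
      v (((EtCoh.bc v).obj ((efCF q w).v.obj T)).hom z) := by
    have := congrArg (fun k => k z) h1
    rw [← Scheme.Hom.comp_apply, ← Scheme.Hom.comp_apply, ← Scheme.Hom.comp_apply]
    exact congrArg (fun k : _ ⟶ Y => k z) h1
  exact Set.disjoint_left.1 hd ⟨_, rfl⟩ ⟨_, h2⟩

/-- `v⁻¹ w_! q⁻¹ F = 0` if the images of `V` and `W` in `Y` are disjoint. -/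
theorem isZero_pull_ef {W : Scheme.{u}} (q : W ⟶ P) (w : W ⟶ Y) [Etale w] (v : V ⟶ Y)
    (hd : Disjoint (Set.range v) (Set.range w)) (F : EtCoh.Ab P) :
    IsZero ((EtCoh.pull v).obj ((efCF q w).L.obj F)) := by
  refine isZero_of_epi (efCF q w) (𝟙 _) v fun T s => ?_
  have := isEmpty_bc q w v hd T
  exact (Etcore.OpenClosed.subsingleton_sect_of_isEmpty _
    ((EtCoh.bc v).obj ((efCF q w).v.obj T))).elim _ _

section beta

variable {X S W : Scheme.{u}} (π : P ⟶ S) (q : W ⟶ P) (w : W ⟶ Y) [Etale w] (f : X ⟶ S)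
  (j : X ⟶ Y) [Etale j] (i : W ⟶ X) (h1 : i ≫ j = w) (h2 : i ≫ f = q ≫ π)

/-- `W ×_P (P ×_S T) ⟶ X ×_S T` is the base change of `W ⟶ X`. -/
theorem isPullback_beta (T : S.Etale) :
    IsPullback ((betaNT π q w f j i h1 h2).app T).left (eW q w ((EtCoh.bc π).obj T))
      (eW f j T) i := by
  have h3 : IsPullback (eT q w ((EtCoh.bc π).obj T) ≫ pr π T) (eW q w ((EtCoh.bc π).obj T))
      T.hom (q ≫ π) :=
    (isPullback_e q w ((EtCoh.bc π).obj T)).paste_horiz (isPullback_pr π T)
  have h4 : IsPullback (((betaNT π q w f j i h1 h2).app T).left ≫ eT f j T)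
      (eW q w ((EtCoh.bc π).obj T)) T.hom (i ≫ f) := by
    rw [betaNT_eT, h2]
    exact h3
  exact IsPullback.of_right h4 (betaNT_eW π q w f j i h1 h2 T) (isPullback_e f j T)

/-- Points of `X ×_S T` over the image of `W`. -/
theorem exists_beta (T : S.Etale) (z : ((efCF f j).v.obj T).left)
    (hz : eW f j T z ∈ Set.range i) :
    ∃ z' : (((pullCF π).comp (efCF q w)).v.obj T).left,
      ((betaNT π q w f j i h1 h2).app T).left z' = z := by
  obtain ⟨x, hx⟩ := hz
  have hp := isPullback_beta π q w f j i h1 h2 T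
  obtain ⟨p, hp1, -⟩ := Scheme.Pullback.exists_preimage_pullback (f := eW f j T) (g := i) z x hx.symm
  refine ⟨hp.isoPullback.inv p, ?_⟩
  have h := hp.isoPullback_inv_fst
  have h' := congrArg (fun k : _ ⟶ ((efCF f j).v.obj T).left => k p) h
  rw [← hp1, ← h, Scheme.Hom.comp_apply]

/-- Points of `V ×_Y (X ×_S T)`: the base change of `β` is surjective if the points of `X` over `V` lie
in `W`. -/
theorem exists_bc_beta (v : V ⟶ Y) (hv : ∀ x : X, j x ∈ Set.range v → x ∈ Set.range i)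
    (T : S.Etale) (z : ((EtCoh.bc v).obj ((efCF f j).v.obj T)).left) :
    ∃ z' : ((EtCoh.bc v).obj (((pullCF π).comp (efCF q w)).v.obj T)).left,
      ((EtCoh.bc v).map ((betaNT π q w f j i h1 h2).app T)).left z' = z := by
  have h3 : j (eW f j T (pr v _ z)) = v (((EtCoh.bc v).obj ((efCF f j).v.obj T)).hom z) := by
    have h := pr_hom v ((efCF f j).v.obj T)
    rw [← eW_w] at h
    rw [← Scheme.Hom.comp_apply, ← Scheme.Hom.comp_apply, ← Scheme.Hom.comp_apply]
    exact congrArg (fun k : _ ⟶ Y => k z) h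
  obtain ⟨z1, hz1⟩ := exists_beta π q w f j i h1 h2 T (pr v _ z) (hv _ ⟨_, h3.symm⟩)
  have hp : IsPullback (pr v (((pullCF π).comp (efCF q w)).v.obj T))
      ((EtCoh.bc v).map ((betaNT π q w f j i h1 h2).app T)).left
      ((betaNT π q w f j i h1 h2).app T).left (pr v ((efCF f j).v.obj T)) := by
    refine IsPullback.of_bot ?_ (bc_map_left_pr v ((betaNT π q w f j i h1 h2).app T)).symm
      (isPullback_pr v ((efCF f j).v.obj T))
    rw [left_hom, left_hom]
    exact isPullback_pr v _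
  obtain ⟨p, -, hp2⟩ := Scheme.Pullback.exists_preimage_pullback
    (f := ((betaNT π q w f j i h1 h2).app T).left) (g := pr v ((efCF f j).v.obj T)) z1 z hz1
  refine ⟨hp.isoPullback.inv p, ?_⟩
  have h := hp.isoPullback_inv_snd
  rw [← hp2, ← h, Scheme.Hom.comp_apply]

/-- `v⁻¹` of the cokernel vanishes if the points of `X` over `V` lie in `W`. -/
theorem isZero_pull_coker (v : V ⟶ Y) (hv : ∀ x : X, j x ∈ Set.range v → x ∈ Set.range i)
    (M : EtCoh.Ab S) :
    IsZero ((EtCoh.pull v).obj (cokernel ((CF.tr (betaNT π q w f j i h1 h2)).app M))) := by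
  refine isZero_of_epi (efCF f j) (cokernel.π ((CF.tr (betaNT π q w f j i h1 h2)).app M)) v
    fun T s => ?_
  let φ := (CF.tr (betaNT π q w f j i h1 h2)).app M
  let c := cokernel.π φ
  apply Groth.Agent.Etbase.EtSite.sect_eq_zero
  intro z
  obtain ⟨z', hz'⟩ := exists_bc_beta π q w f j i h1 h2 v hv T z
  refine ⟨_, (EtCoh.bc v).map ((betaNT π q w f j i h1 h2).app T), z', hz', ?_⟩
  have e1 := (pullCF v).un_res ((betaNT π q w f j i h1 h2).app T)
    (c.hom.app (op ((efCF f j).v.obj T)) ((efCF f j).un s))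
  refine e1.symm.trans ?_
  have e2 := ConcreteCategory.congr_hom (c.hom.naturality ((betaNT π q w f j i h1 h2).app T).op)
    ((efCF f j).un s)
  have e3 := CF.tr_un (betaNT π q w f j i h1 h2) s
  have e4 : c.hom.app _ (((CF.tr (betaNT π q w f j i h1 h2)).app M).hom.app _
      (((pullCF π).comp (efCF q w)).un s)) = 0 := by
    have h : φ ≫ c = 0 := cokernel.condition φ
    exact congrArg (fun k => k.hom.app _ (((pullCF π).comp (efCF q w)).un s)) h
  have e5 : (cokernel φ).obj.map ((betaNT π q w f j i h1 h2).app T).op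
      (c.hom.app (op ((efCF f j).v.obj T)) ((efCF f j).un s)) = 0 := by
    refine e2.symm.trans ?_
    refine (congrArg (c.hom.app _) e3.symm).trans ?_
    exact e4
  rw [e5]
  exact CF.un_zero _ _ _

end beta

end Groth.Agent.Etdl.H111.UnVan
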