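import Groth.Agent.Etdl.H440.Iface
import Groth.Agent.Etdl.H111.ExtSurj
import Groth.Agent.Etdl.H111.UnVan
import Groth.Agent.Etdl.H111.SuppVan
import Groth.Agent.Etdl.H111.ClosDim
import Groth.Agent.EtpbcA.CdTwoDim

/-!
# `H^{2d}(Y, w_! q⁻¹ π⁻¹ M) ⟶ H^{2d}(Y, j_! f⁻¹ M)` is surjective for `W` dense in `X`
-/

set_option autoImplicit false
set_option linter.dupNamespace false
universe u
open CategoryTheory CategoryTheory.Limits AlgebraicGeometry Opposite Abelian TopologicalSpace
open Groth.Agent.Sga4B.DualShape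
open Groth.Agent.EtpbcB.BCCalc
open scoped Groth.Agent.Etcore.EtInst
open Groth.Agent.Etcore.EtInst
open Groth.Agent.Etdl.H440.CF

namespace Groth.Agent.Etdl.H111.StmtA3

/-- The reduced closed subscheme on a closed subset. -/
theorem exists_closed {Y : Scheme.{u}} (C : Set Y) (hC : IsClosed C) :
    ∃ (Z : Scheme.{u}) (ι : Z ⟶ Y), IsClosedImmersion ι ∧ Set.range ι = C := by
  refine ⟨_, (Scheme.IdealSheafData.vanishingIdeal ⟨C, hC⟩).subschemeι, inferInstance, ?_⟩
  rw [Scheme.IdealSheafData.range_subschemeι, Scheme.IdealSheafData.coe_support_vanishingIdeal]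
  rfl

/-- A torsion sheaf on `Y` whose restriction to the complement of the closure of the image of the noetherian
scheme `X` of dimension `≤ d` vanishes. -/
theorem subsingleton_ext {k : Type u} [Field k] [IsAlgClosed k] {X Y : Scheme.{u}}
    (p : Y ⟶ Spec (CommRingCat.of k)) [IsProper p] (h : X ⟶ Y) [LocallyOfFiniteType h]
    [NoetherianSpace X] (d : ℕ) (hd : topologicalKrullDim X ≤ d) (F : EtCoh.Ab Y)
    (hF : EtCoh.IsTorsion F)
    (hs : ∀ (V : Scheme.{u}) (v : V ⟶ Y) [IsOpenImmersion v], Disjoint (Set.range v) (Set.range h) →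
      IsZero ((EtCoh.pull v).obj F)) (q : ℕ) (hq : 2 * d < q) :
    Subsingleton (Ext.{u + 1} (ZS (EtCoh.top Y)) F q) := by
  obtain ⟨Z, ι, hι, hr⟩ := exists_closed (closure (Set.range h)) isClosed_closure
  have hZd := ClosDim.topologicalKrullDim_le_of_range h p d hd ι hr.le
  refine SuppVan.subsingleton_ext_of_supp ι (2 * d)
    (EtpbcA.CdTwoDim.cohDimLE_two_mul Z (ι ≫ p) d hZd) F hF (fun Ω _ _ ξ hξ => ?_) q hq
  let V : Y.Opens := ⟨(Set.range ι)ᶜ, ι.isClosedEmbedding.isClosed_range.isOpen_compl⟩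
  refine SuppVan.isZero_stalk V.ι F (hs _ V.ι ?_) Ω ξ ?_
  · rw [Scheme.Opens.range_ι, Set.disjoint_left]
    intro y hy hy'
    refine hy ?_
    rw [hr]
    exact subset_closure hy'
  · rw [Scheme.Opens.range_ι]
    exact hξ

theorem stmtA3 : Groth.Agent.Etdl.H440.Iface.StmtA3.{u} := by
  intro k _ _ X Y W P S p _ w _ j _ _ _ d _ _ _ i _ h1 π q f h2 n hn _ M hM
  have hM' : n • 𝟙 M = 0 := (Groth.Agent.Sga4B.ShriekTools.killedBy_iff n M).1 hM
  have hnoeY : IsLocallyNoetherian Y := LocallyOfFiniteType.isLocallyNoetherian p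
  have hcX : CompactSpace X := QuasiCompact.compactSpace_of_compactSpace (j ≫ p)
  have hnoeX : IsLocallyNoetherian X := LocallyOfFiniteType.isLocallyNoetherian j
  have : IsNoetherian X := ⟨⟩
  have hnX : NoetherianSpace X := inferInstance
  have hdX : topologicalKrullDim X = d := ClosDim.topologicalKrullDim_eq (j ≫ p) d
  let φ := (CF.tr (betaNT π q w f j i h1 h2)).app M
  refine ExtSurj.surjective_of_ker_coker φ (2 * d) ?_ ?_
  · refine subsingleton_ext p j d hdX.le (kernel φ) ?_ ?_ (2 * d + 1) (by omega)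
    · exact SuppVan.isTorsion_kernel φ n hn
        (SuppVan.nsmul_id_map (efCF q w).L n _ (SuppVan.nsmul_id_map (EtCoh.pull π) n M hM'))
    · intro V v _ hd
      have hw : Set.range w ⊆ Set.range j := by
        rw [← h1]
        rintro _ ⟨x, rfl⟩
        exact ⟨i x, (Scheme.Hom.comp_apply i j x).symm⟩
      have h3 := UnVan.isZero_pull_ef q w v (hd.mono_right hw) ((EtCoh.pull π).obj M)
      exact IsZero.of_mono ((EtCoh.pull v).map (kernel.ι φ)) h3
  · obtain ⟨R, c, hc, hR⟩ := exists_closed (Set.range i)ᶜ i.isOpenEmbedding.isOpen_range.isClosed_compl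
    have hne : Set.range c ≠ Set.univ := by
      rw [hR]
      intro h
      obtain ⟨x⟩ := ‹Nonempty W›
      have : i x ∈ (Set.range i)ᶜ := by rw [h]; trivial
      exact this ⟨x, rfl⟩
    have hT : EtCoh.IsTorsion (cokernel φ) :=
      SuppVan.isTorsion_cokernel φ n hn (SuppVan.nsmul_id_map (efCF f j).L n M hM')
    have hz : ∀ (V : Scheme.{u}) (v : V ⟶ Y) [IsOpenImmersion v],
        Disjoint (Set.range v) (Set.range (c ≫ j)) → IsZero ((EtCoh.pull v).obj (cokernel φ)) := by
      intro V v _ hd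
      refine UnVan.isZero_pull_coker π q w f j i h1 h2 v (fun x hx => ?_) M
      by_contra hxi
      have h3 : x ∈ Set.range c := by
        rw [hR]
        exact hxi
      obtain ⟨r, rfl⟩ := h3
      exact Set.disjoint_left.1 hd hx ⟨r, Scheme.Hom.comp_apply c j r⟩
    rcases Nat.eq_zero_or_pos d with hd0 | hd0
    · have hRe : IsEmpty R := by
        refine ClosDim.isEmpty_of_closed c hne ?_
        rw [hdX, hd0]
      have h0 : IsZero (cokernel φ) := by
        rw [Groth.Agent.Etcore.Stalks.isZero_iff_stalks]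
        intro Ω _ _ ξ
        refine SuppVan.isZero_stalk (𝟙 Y) _ (hz Y (𝟙 Y) ?_) Ω ξ ⟨_, rfl⟩
        rw [Set.disjoint_left]
        rintro _ - ⟨r, -⟩
        exact hRe.elim r
      exact ExtSurj.subsingleton_of_isZero h0 _
    · obtain ⟨e, rfl⟩ : ∃ e, d = e + 1 := ⟨d - 1, by omega⟩
      have hRd : topologicalKrullDim R ≤ e := ClosDim.topologicalKrullDim_le_of_closed c hne e hdX.le
      have hnR : NoetherianSpace R := c.isClosedEmbedding.isEmbedding.isInducing.noetherianSpace
      exact subsingleton_ext p (c ≫ j) e hRd (cokernel φ) hT hz (2 * (e + 1)) (by omega)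

end Groth.Agent.Etdl.H111.StmtA3
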